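import Mathlib
import Cfsg.Agent.Transfer.Frobenius
import Cfsg.Agent.Transfer.Focal

/-!
Small Sylow subgroups: normal `p`-complements when no prime can act, and related transfer facts.
-/
set_option autoImplicit false

open scoped commutatorElement IsMulCommutative

namespace CfsgLib.Transfer

attribute [local instance] pResidual_normal

variable {p : ℕ} {G : Type*} [Group G] [Finite G] [hp : Fact p.Prime]

/-- If no prime divisor `q ≠ p` of `|G|` divides a number `p^k - p^i` with `i < k` and `p^k ∣ |P|`, there is a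
normal `p`-complement. -/
theorem hasNormalPComplement_of_no_aut (P : Sylow p G)
    (h : ∀ q : ℕ, q.Prime → q ≠ p → q ∣ Nat.card G → ∀ i k : ℕ, i < k → p ^ k ∣ Nat.card (P : Subgroup G) →
      ¬ q ∣ p ^ k - p ^ i) : Cfsg.HasNormalPComplement p G := by
  refine frobenius_normal_complement (locallyTrivial_of_sylow P fun Q hQ n hn hnp => ?_)
  have hQp : IsPGroup p Q := P.isPGroup'.to_le hQ
  by_contra hcon
  let f := Subgroup.normalizerMonoidHom Q
  set φ₀ : MulAut Q := f ⟨n, hn⟩ with hφ₀
  have hne : φ₀ ≠ 1 := fun h1 => hcon (Subgroup.mem_centralizer_iff.2 fun x hx => by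
    have h2 : n * x * n⁻¹ = x := congrArg (fun ψ : MulAut Q => ((ψ ⟨x, hx⟩ : Q) : G)) h1
    exact (mul_inv_eq_iff_eq_mul.1 h2).symm)
  obtain ⟨q, hq, hqd⟩ := Nat.exists_prime_and_dvd (fun h1 => hne (orderOf_eq_one_iff.1 h1))
  have hqn : q ∣ orderOf n := hqd.trans ((orderOf_map_dvd f ⟨n, hn⟩).trans (by rw [Subgroup.orderOf_mk]))
  have hqp : q ≠ p := fun e => hq.one_lt.ne' (Nat.eq_one_of_dvd_coprimes hnp hqn (e ▸ dvd_rfl))
  set φ := φ₀ ^ (orderOf φ₀ / q) with hφ
  have hφo : orderOf φ = q := orderOf_pow_orderOf_div (orderOf_pos φ₀).ne' hqd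
  let S : Subgroup Q :=
    { carrier := {x | φ x = x}
      one_mem' := map_one φ
      mul_mem' := fun {a b} ha hb => by
        show φ (a * b) = a * b
        rw [map_mul, ha, hb]
      inv_mem' := fun {a} ha => by
        show φ a⁻¹ = a⁻¹
        rw [map_inv, ha] }
  obtain ⟨k, hk⟩ := IsPGroup.iff_card.1 hQp
  obtain ⟨i, hi⟩ := IsPGroup.iff_card.1 (hQp.to_subgroup S)
  have hik : i < k := by
    refine lt_of_le_of_ne ((Nat.pow_le_pow_iff_right hp.out.one_lt).1 ?_) ?_
    · rw [← hi, ← hk]; exact Nat.le_of_dvd Nat.card_pos (Subgroup.card_subgroup_dvd_card S)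
    · intro e
      have hS : S = ⊤ := Subgroup.eq_top_of_le_card S (by rw [hi, hk, e])
      refine hq.one_lt.ne ?_
      rw [← hφo, eq_comm, orderOf_eq_one_iff]
      exact MulEquiv.ext fun x => (hS.ge (Subgroup.mem_top x) : x ∈ S)
  have hpk : p ^ k ∣ Nat.card (P : Subgroup G) := hk ▸ Subgroup.card_dvd_of_le hQ
  have : Fact q.Prime := ⟨hq⟩
  have hA : IsPGroup q (Subgroup.zpowers φ) := IsPGroup.of_card (n := 1) (by rw [Nat.card_zpowers, hφo, pow_one])
  have hfix : Nat.card (MulAction.fixedPoints (Subgroup.zpowers φ) Q) = Nat.card S := by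
    refine Nat.card_congr (Equiv.subtypeEquivRight fun x => ⟨fun hx => hx ⟨φ, Subgroup.mem_zpowers φ⟩, ?_⟩)
    rintro hx ⟨ψ, hψ⟩
    have hle : Subgroup.zpowers φ ≤ MulAction.stabilizer (MulAut Q) x := Subgroup.zpowers_le.2 hx
    exact hle hψ
  have hmod := hA.card_modEq_card_fixedPoints Q
  rw [hfix, hk, hi] at hmod
  exact h q hq hqp (hqn.trans (orderOf_dvd_natCard n)) i k hik hpk
    ((Nat.modEq_iff_dvd' (Nat.pow_le_pow_right hp.out.pos hik.le)).1 hmod.symm)

/-- A nonabelian simple group of order divisible by `p` has no normal `p`-complement. -/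
theorem not_hasNormalPComplement_of_simple [IsSimpleGroup G] (hG : ∃ x y : G, x * y ≠ y * x)
    (hd : p ∣ Nat.card G) : ¬ Cfsg.HasNormalPComplement p G := by
  intro h
  obtain ⟨x, y, hxy⟩ := hG
  rcases (pResidual_normal (p := p) (G := G)).eq_bot_or_eq_top with hb | ht
  · have hpg : IsPGroup p G := by
      refine isPGroup_quotient_pResidual.of_injective
        (QuotientGroup.mk' (Cfsg.pResidual p G)) ((MonoidHom.ker_eq_bot_iff _).1 ?_)
      rw [QuotientGroup.ker_mk', hb]
    have hc := hpg.center_nontrivial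
    rcases (inferInstance : (Subgroup.center G).Normal).eq_bot_or_eq_top with hz | hz
    · exact (Subgroup.nontrivial_iff_ne_bot _).1 hc hz
    · exact hxy ((Subgroup.mem_center_iff.1 (hz.ge (Subgroup.mem_top x)) y).symm)
  · have := hasNormalPComplement_iff.1 h
    rw [ht, Subgroup.card_top] at this
    exact this hd

omit hp in
/-- A central element in an abelian Hall subgroup and in `G'` is trivial. -/
theorem eq_one_of_mem_abelian_hall (H : Subgroup G) [IsMulCommutative H]
    (hHall : (Nat.card H).Coprime H.index) {z : G} (hz : z ∈ H) (hz' : z ∈ commutator G)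
    (hzc : z ∈ Subgroup.center G) : z = 1 := by
  let τ : G →* H := MonoidHom.transfer (MonoidHom.id H)
  have h1 : τ z = 1 := MonoidHom.mem_ker.1 (Abelianization.commutator_subset_ker τ hz')
  have h2 := MonoidHom.transfer_eq_pow (MonoidHom.id H) z fun k g _ => by
    rw [mul_assoc, ← Subgroup.mem_center_iff.1 (pow_mem hzc k) g, inv_mul_cancel_left]
  rw [show τ z = _ from h2] at h1
  have h3 : z ^ H.index = 1 := congrArg Subtype.val h1
  exact orderOf_eq_one_iff.1 (Nat.eq_one_of_dvd_coprimes hHall (H.orderOf_dvd_natCard hz)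
    (orderOf_dvd_of_pow_eq_one h3))

end CfsgLib.Transfer
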