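import Mathlib
import Cfsg.Agent.Transfer.Focal
import Cfsg.Agent.CoprimeAction.Abelian

/-!
An abelian Sylow subgroup `P` is the product of `P ∩ Z(N(P))` and `[P, N(P)]`.
-/
set_option autoImplicit false

open scoped commutatorElement

namespace CfsgLib.Transfer

variable {p : ℕ} {G : Type*} [Group G] [Finite G] [hp : Fact p.Prime]

/-- A `p'`-complement of `P` in its normaliser. -/
theorem exists_normalizer_complement (P : Sylow p G) :
    ∃ A : Subgroup G, A ≤ Subgroup.normalizer ((P : Subgroup G) : Set G) ∧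
      (Nat.card A).Coprime (Nat.card (P : Subgroup G)) ∧
      ∀ n ∈ Subgroup.normalizer ((P : Subgroup G) : Set G), ∃ y ∈ (P : Subgroup G), ∃ a ∈ A, y * a = n := by
  set N := Subgroup.normalizer ((P : Subgroup G) : Set G) with hN
  let PN : Sylow p N := P.subtype Subgroup.le_normalizer
  have hn : (PN : Subgroup N).Normal := Subgroup.normal_in_normalizer
  obtain ⟨A, hA⟩ := Subgroup.exists_right_complement'_of_coprime PN.card_coprime_index
  refine ⟨A.map N.subtype, Subgroup.map_subtype_le _, ?_, fun n hn => ?_⟩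
  · rw [Subgroup.card_map_of_injective N.subtype_injective,
      ← Nat.card_congr (Subgroup.subgroupOfEquivOfLe (Subgroup.le_normalizer : (P : Subgroup G) ≤ N)).toEquiv,
      ← hA.symm.index_eq_card]
    exact PN.card_coprime_index.symm
  · obtain ⟨⟨⟨y, hy⟩, ⟨a, ha⟩⟩, hya⟩ := hA.2 (⟨n, hn⟩ : N)
    exact ⟨y, hy, a, ⟨a, ha, rfl⟩, congrArg Subtype.val hya⟩

theorem abelian_decomp (P : Sylow p G) (hP : IsMulCommutative P) :
    ((P : Subgroup G) ⊓ Subgroup.centralizer (Subgroup.normalizer ((P : Subgroup G) : Set G) : Set G)) ⊓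
        ⁅(P : Subgroup G), Subgroup.normalizer ((P : Subgroup G) : Set G)⁆ = ⊥ ∧
      ((P : Subgroup G) ⊓ Subgroup.centralizer (Subgroup.normalizer ((P : Subgroup G) : Set G) : Set G)) ⊔
        ⁅(P : Subgroup G), Subgroup.normalizer ((P : Subgroup G) : Set G)⁆ = (P : Subgroup G) := by
  obtain ⟨A, hAN, hcop, hprod⟩ := exists_normalizer_complement P
  set N := Subgroup.normalizer ((P : Subgroup G) : Set G) with hN
  have hP' : IsMulCommutative (P : Subgroup G) := hP
  have hcomm : ∀ x ∈ (P : Subgroup G), ∀ y ∈ (P : Subgroup G), x * y = y * x := fun x hx y hy =>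
    congrArg Subtype.val (mul_comm' (⟨x, hx⟩ : (P : Subgroup G)) ⟨y, hy⟩)
  have hC : (P : Subgroup G) ⊓ Subgroup.centralizer (N : Set G) = (P : Subgroup G) ⊓ Subgroup.centralizer (A : Set G) := by
    refine le_antisymm (inf_le_inf_left _ (Subgroup.centralizer_le hAN)) ?_
    rintro x ⟨hx, hxA⟩
    refine ⟨hx, Subgroup.mem_centralizer_iff.2 fun n hn => ?_⟩
    obtain ⟨y, hy, a, ha, rfl⟩ := hprod n hn
    rw [mul_assoc, Subgroup.mem_centralizer_iff.1 hxA a ha, ← mul_assoc, hcomm y hy x hx, mul_assoc]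
  have hK : ⁅(P : Subgroup G), N⁆ = ⁅(P : Subgroup G), A⁆ := by
    refine le_antisymm ?_ (Subgroup.commutator_mono le_rfl hAN)
    rw [Subgroup.commutator_le]
    intro x hx n hn
    obtain ⟨y, hy, a, ha, rfl⟩ := hprod n hn
    have h1 := Subgroup.commutator_mem_commutator hx ha
    have e : ⁅x, y * a⁆ = ⁅x, y⁆ * (y * ⁅x, a⁆ * y⁻¹) := by simp only [commutatorElement_def]; group
    rw [e, commutatorElement_eq_one_iff_mul_comm.2 (hcomm x hx y hy), one_mul,
      hcomm y hy _ (CfsgLib.CoprimeAction.commutator_le_of_normalizer hAN h1), mul_inv_cancel_right]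
    exact h1
  rw [hC, hK]
  refine ⟨?_, ?_⟩
  · exact CfsgLib.CoprimeAction.centralizer_inf_commutator_eq_bot hAN hcop
  · rw [sup_comm]
    have := P.isPGroup'.isNilpotent
    exact CfsgLib.CoprimeAction.commutator_sup_centralizer hAN hcop (Or.inr inferInstance)

omit [Finite G] hp in
/-- Two disjoint subgroups of a finite cyclic `p`-group: one of them is trivial. -/
theorem eq_bot_or_eq_bot_of_cyclic [Finite G] [Fact p.Prime] {P A B : Subgroup G} (hP : IsPGroup p P) (hc : IsCyclic P)
    (hA : A ≤ P) (hB : B ≤ P) (h : A ⊓ B = ⊥) : A = ⊥ ∨ B = ⊥ := by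
  classical
  by_contra hcon
  push Not at hcon
  have hel : ∀ C : Subgroup G, C ≤ P → C ≠ ⊥ → ∃ c : P, (c : G) ∈ C ∧ orderOf c = p := by
    intro C hC hne
    have hCp : IsPGroup p C := hP.to_le hC
    have : Nontrivial C := (Subgroup.nontrivial_iff_ne_bot _).2 hne
    obtain ⟨c, hc⟩ := exists_prime_orderOf_dvd_card' p
      (hCp.card_eq_or_dvd.resolve_left (fun h => (Finite.one_lt_card (α := C)).ne' h))
    exact ⟨⟨c, hC c.2⟩, c.2, by rw [Subgroup.orderOf_mk, Subgroup.orderOf_coe, hc]⟩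
  obtain ⟨a, haA, ha⟩ := hel A hA hcon.1
  obtain ⟨b, hbB, hb⟩ := hel B hB hcon.2
  have hba : b ∈ Subgroup.zpowers a := by
    by_contra hba
    have : Fintype P := Fintype.ofFinite _
    have h1 := IsCyclic.card_pow_eq_one_le (α := P) (n := p) (Fact.out (p := p.Prime)).pos
    have h2 : insert b ((Subgroup.zpowers a : Set P).toFinset) ⊆ Finset.univ.filter (fun x : P => x ^ p = 1) := by
      intro x hx
      rw [Finset.mem_filter]
      refine ⟨Finset.mem_univ _, orderOf_dvd_iff_pow_eq_one.1 ?_⟩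
      rcases Finset.mem_insert.1 hx with rfl | hx
      · rw [hb]
      · obtain ⟨k, rfl⟩ := Set.mem_toFinset.1 hx
        exact ha ▸ orderOf_dvd_iff_pow_eq_one.2 (by
          show (a ^ k) ^ orderOf a = 1
          rw [← zpow_natCast, ← zpow_mul, mul_comm, zpow_mul, zpow_natCast, pow_orderOf_eq_one, one_zpow])
    have h3 := (Finset.card_le_card h2).trans h1
    rw [Finset.card_insert_of_notMem (by simpa using hba), Set.toFinset_card, ← Nat.card_eq_fintype_card] at h3
    have h4 : Nat.card ((Subgroup.zpowers a : Subgroup P) : Set P) = p := (Nat.card_zpowers a).trans ha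
    omega
  obtain ⟨k, hk⟩ := hba
  have : (b : G) ∈ A ⊓ B := ⟨by rw [← hk]; exact A.zpow_mem haA k, hbB⟩
  rw [h, Subgroup.mem_bot] at this
  rw [OneMemClass.coe_eq_one.1 this, orderOf_one] at hb
  exact (Fact.out (p := p.Prime)).one_lt.ne hb

end CfsgLib.Transfer
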