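import Mathlib

/-!
The transfer into an abelian group written through the cocycle of a section, with partial products over
invariant sets of cosets.
-/

set_option autoImplicit false
set_option linter.style.haveILetI false

namespace CfsgLib.CocycleTransfer

variable {G : Type*} [Group G] {H : Subgroup G} {B : Type*} [CommGroup B]

/-- The cocycle of the section `Quotient.out`. -/
noncomputable def cfun (x : G) (q : G ⧸ H) : H :=
  ⟨(x • q).out⁻¹ * (x * q.out), QuotientGroup.eq.1 (by
    rw [QuotientGroup.out_eq']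
    conv_lhs => rw [← QuotientGroup.out_eq' q]
    exact MulAction.Quotient.smul_mk H x q.out)⟩

theorem cfun_mul (x y : G) (q : G ⧸ H) : cfun (x * y) q = cfun x (y • q) * cfun y q := by
  refine Subtype.ext ?_
  simp only [cfun, Subgroup.coe_mul, mul_smul]
  group

/-- Its image in `B`. -/
noncomputable def w (π : H →* B) (x : G) (q : G ⧸ H) : B := π (cfun x q)

theorem w_mul (π : H →* B) (x y : G) (q : G ⧸ H) : w π (x * y) q = w π x (y • q) * w π y q := by
  rw [w, cfun_mul, map_mul]; rfl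

theorem w_one (π : H →* B) (q : G ⧸ H) : w π 1 q = 1 := by
  have h := w_mul π 1 1 q
  rw [one_smul, mul_one] at h
  exact mul_eq_left.1 h.symm

theorem w_pow (π : H →* B) (x : G) (q : G ⧸ H) (n : ℕ) :
    w π (x ^ n) q = ∏ i ∈ Finset.range n, w π x (x ^ i • q) := by
  induction n with
  | zero => simp [w_one]
  | succ k ih => rw [pow_succ', w_mul, ih, Finset.prod_range_succ, mul_comm]

theorem w_of_fixed (π : H →* B) {x : G} {q : G ⧸ H} (h : x • q = q) :
    ∃ hm : q.out⁻¹ * x * q.out ∈ H, w π x q = π ⟨_, hm⟩ := by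
  have e : (cfun x q : G) = q.out⁻¹ * x * q.out := by simp only [cfun, h, mul_assoc]
  exact ⟨e ▸ (cfun x q).2, congrArg π (Subtype.ext e)⟩

theorem w_base (π : H →* B) {x : G} (hx : x ∈ H) : w π x ((1 : G) : G ⧸ H) = π ⟨x, hx⟩ := by
  have hfix : x • ((1 : G) : G ⧸ H) = ((1 : G) : G ⧸ H) := by
    rw [MulAction.Quotient.smul_mk, QuotientGroup.eq]
    simpa using H.inv_mem hx
  obtain ⟨hm, e⟩ := w_of_fixed π hfix
  set s := ((1 : G) : G ⧸ H).out with hs
  have hsH : s ∈ H := by
    have h1 := QuotientGroup.eq.1 (QuotientGroup.out_eq' ((1 : G) : G ⧸ H))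
    rwa [mul_one, Subgroup.inv_mem_iff] at h1
  rw [e, show (⟨_, hm⟩ : H) = (⟨s, hsH⟩ : H)⁻¹ * ⟨x, hx⟩ * ⟨s, hsH⟩ from Subtype.ext rfl, map_mul, map_mul,
    map_inv, mul_comm, mul_inv_cancel_left]

/-- A product over an invariant set, reindexed. -/
theorem prod_smul (f : G ⧸ H → B) {x : G} {S : Finset (G ⧸ H)} (hS : ∀ q ∈ S, x • q ∈ S) :
    ∏ q ∈ S, f (x • q) = ∏ q ∈ S, f q := by
  classical
  have himg : S.image (x • ·) = S := Finset.eq_of_subset_of_card_le (Finset.image_subset_iff.2 hS)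
    (Finset.card_image_of_injective _ (MulAction.injective x)).ge
  conv_rhs => rw [← himg]
  rw [Finset.prod_image fun a _ b _ h => MulAction.injective x h]

theorem prod_mul_of_invariant (π : H →* B) (x : G) {y : G} {S : Finset (G ⧸ H)} (hS : ∀ q ∈ S, y • q ∈ S) :
    ∏ q ∈ S, w π (x * y) q = (∏ q ∈ S, w π x q) * ∏ q ∈ S, w π y q := by
  simp only [w_mul]
  rw [Finset.prod_mul_distrib, prod_smul (fun q => w π x q) hS]

/-- The transfer. -/
noncomputable def tr [Fintype (G ⧸ H)] (π : H →* B) : G →* B :=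
  MonoidHom.mk' (fun x => ∏ q, w π x q) fun x _ => prod_mul_of_invariant π x fun q _ => Finset.mem_univ _

theorem tr_apply [Fintype (G ⧸ H)] (π : H →* B) (x : G) : tr π x = ∏ q, w π x q := rfl

/-- A product over a set without fixed points of a `p`-element only involves smaller elements. -/
theorem prod_mem_of_no_fixed [Finite G] {p : ℕ} [Fact p.Prime] (π : H →* B) (W : Subgroup B) {x : G} {k : ℕ}
    (hx : orderOf x = p ^ k)
    (hW : ∀ (g : G) (h : H), (∃ m : ℕ, (h : G) = g⁻¹ * x ^ m * g) → orderOf h < orderOf x → π h ∈ W) :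
    ∀ S : Finset (G ⧸ H), (∀ q ∈ S, x • q ∈ S) → (∀ q ∈ S, x • q ≠ q) → ∏ q ∈ S, w π x q ∈ W := by
  classical
  intro S
  induction S using Finset.strongInduction with
  | _ S ih =>
  intro hS hne
  rcases S.eq_empty_or_nonempty with rfl | ⟨q, hq⟩
  · simp
  have hex : ∃ n, 0 < n ∧ x ^ n • q = q := ⟨orderOf x, orderOf_pos x, by rw [pow_orderOf_eq_one, one_smul]⟩
  set L := Nat.find hex with hL
  obtain ⟨hL0, hLq⟩ : 0 < L ∧ x ^ L • q = q := Nat.find_spec hex
  have hmin : ∀ n, 0 < n → n < L → x ^ n • q ≠ q := fun n h1 h2 h3 => Nat.find_min hex h2 ⟨h1, h3⟩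
  have hdvd : L ∣ orderOf x := by
    refine Nat.dvd_of_mod_eq_zero (by_contra fun h => hmin _ (Nat.pos_of_ne_zero h) (Nat.mod_lt _ hL0) ?_)
    have hmul : ∀ j : ℕ, x ^ (L * j) • q = q := by
      intro j
      induction j with
      | zero => simp
      | succ j ihj => rw [mul_add, mul_one, pow_add, mul_smul, hLq, ihj]
    have h1 : x ^ orderOf x • q = q := by rw [pow_orderOf_eq_one, one_smul]
    rw [← Nat.mod_add_div (orderOf x) L, pow_add, mul_smul, hmul] at h1
    exact h1
  have hL1 : L ≠ 1 := fun h => hne q hq (by rw [h, pow_one] at hLq; exact hLq)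
  have hmem : ∀ i : ℕ, x ^ i • q ∈ S := by
    intro i
    induction i with
    | zero => simpa
    | succ i ihi => rw [pow_succ', mul_smul]; exact hS _ ihi
  set O := (Finset.range L).image fun i => x ^ i • q with hO
  have hinj : Set.InjOn (fun i : ℕ => x ^ i • q) (Finset.range L : Set ℕ) := by
    intro i hi j hj h
    simp only [Finset.coe_range, Set.mem_Iio] at hi hj
    simp only at h
    rcases lt_trichotomy i j with hlt | rfl | hlt
    · exact absurd (MulAction.injective (x ^ i) (by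
        show x ^ i • x ^ (j - i) • q = x ^ i • q
        rw [← mul_smul, ← pow_add, Nat.add_sub_cancel' hlt.le, h])) (hmin (j - i) (by omega) (by omega))
    · rfl
    · exact absurd (MulAction.injective (x ^ j) (by
        show x ^ j • x ^ (i - j) • q = x ^ j • q
        rw [← mul_smul, ← pow_add, Nat.add_sub_cancel' hlt.le, h])) (hmin (i - j) (by omega) (by omega))
  have hOS : O ⊆ S := Finset.image_subset_iff.2 fun i _ => hmem i
  have hOinv : ∀ y ∈ O, x • y ∈ O := by
    intro y hy
    obtain ⟨i, hi, rfl⟩ := Finset.mem_image.1 hy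
    rw [Finset.mem_range] at hi
    rw [← mul_smul, ← pow_succ']
    rcases (Nat.succ_le_of_lt hi).lt_or_eq with h | h
    · exact Finset.mem_image.2 ⟨i + 1, Finset.mem_range.2 h, rfl⟩
    · exact Finset.mem_image.2 ⟨0, Finset.mem_range.2 hL0, by
        show x ^ 0 • q = x ^ (i + 1) • q
        rw [show i + 1 = L from h, hLq, pow_zero, one_smul]⟩
  rw [← Finset.prod_sdiff hOS]
  refine W.mul_mem (ih _ (Finset.sdiff_ssubset hOS ⟨q, Finset.mem_image.2 ⟨0, Finset.mem_range.2 hL0, by simp⟩⟩)
    (fun y hy => Finset.mem_sdiff.2 ⟨hS y (Finset.mem_sdiff.1 hy).1, fun hxy => (Finset.mem_sdiff.1 hy).2 ?_⟩)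
    fun y hy => hne y (Finset.mem_sdiff.1 hy).1) ?_
  · have hbij : O.image (x • ·) = O := Finset.eq_of_subset_of_card_le (Finset.image_subset_iff.2 hOinv)
      (Finset.card_image_of_injective _ (MulAction.injective x)).ge
    rw [← hbij] at hxy
    obtain ⟨z, hz, hzy⟩ := Finset.mem_image.1 hxy
    exact MulAction.injective x hzy ▸ hz
  · rw [Finset.prod_image hinj, ← w_pow]
    obtain ⟨hm, e⟩ := w_of_fixed π hLq
    rw [e]
    refine hW q.out _ ⟨L, rfl⟩ ?_
    rw [Subgroup.orderOf_mk, show q.out⁻¹ * x ^ L * q.out = MulAut.conj q.out⁻¹ (x ^ L) by simp,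
      MulEquiv.orderOf_eq, orderOf_pow' x hL0.ne', Nat.gcd_eq_right hdvd]
    exact Nat.div_lt_self (orderOf_pos x) (by omega)

end CfsgLib.CocycleTransfer
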