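import Mathlib
import Cfsg.Prelude.Def_Transfer
import Cfsg.Agent.Transfer.Residual
import Cfsg.Agent.Transfer.Frobenius

/-!
Tate's normal `p`-complement theorem, by the transfer splitting of a central extension.
-/
set_option autoImplicit false

open scoped commutatorElement IsMulCommutative

namespace CfsgLib.Transfer

variable {p : ℕ}

/-- A central `p`-subgroup `Z` of `P` with a compatible map from `G` lifts: if `σ : P → Q` has central kernel,
`π : G → Q`, and `ι : S → P` lifts `π` on a subgroup `S` of `p'`-index, then `π` lifts to `G → P`. -/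
theorem exists_lift_of_sylow {G P Q : Type*} [Group G] [Group P] [Group Q] [Finite G] [Finite P] [Fact p.Prime]
    (σ : P →* Q) (hσ : σ.ker ≤ Subgroup.center P) (hZ : IsPGroup p σ.ker) (π : G →* Q)
    (hπ : ∀ g, ∃ u, σ u = π g) (S : Subgroup G) (hS : ¬ p ∣ S.index) (ι : S →* P) (hι : ∀ s, σ (ι s) = π s) :
    ∃ φ : G →* P, ∀ g, σ (φ g) = π g := by
  let E : Subgroup (G × P) := MonoidHom.eqLocus (π.comp (MonoidHom.fst G P)) (σ.comp (MonoidHom.snd G P))
  have hE : ∀ x : E, π (x : G × P).1 = σ (x : G × P).2 := fun x => x.2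
  let pr : E →* G := (MonoidHom.fst G P).comp E.subtype
  have hpr : Function.Surjective pr := fun g => by
    obtain ⟨u, hu⟩ := hπ g
    exact ⟨⟨(g, u), hu.symm⟩, rfl⟩
  let ES : Subgroup E := S.comap pr
  have hidx : ES.index = S.index := S.index_comap_of_surjective hpr
  let rv : ES → P := fun x => (ι ⟨pr x, x.2⟩)⁻¹ * ((x : E) : G × P).2
  have hrv : ∀ x, rv x ∈ σ.ker := fun x => by
    rw [MonoidHom.mem_ker, map_mul, map_inv, hι, ← hE x.1]
    exact inv_mul_cancel _
  let r : ES →* σ.ker :=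
    MonoidHom.mk' (fun x => ⟨rv x, hrv x⟩) fun x y => Subtype.ext (by
      have hc := Subgroup.mem_center_iff.mp (hσ (hrv x)) ((ι ⟨pr y, y.2⟩)⁻¹)
      show rv (x * y) = rv x * rv y
      simp only [rv] at hc ⊢
      have he : ι ⟨pr ↑(x * y), (x * y).2⟩ = ι ⟨pr x, x.2⟩ * ι ⟨pr y, y.2⟩ := by
        rw [← map_mul]; exact congrArg ι (Subtype.ext (by simp))
      rw [he, mul_inv_rev]
      calc (ι ⟨pr y, y.2⟩)⁻¹ * (ι ⟨pr x, x.2⟩)⁻¹ * (((x * y : ES) : E) : G × P).2
          = (ι ⟨pr y, y.2⟩)⁻¹ * ((ι ⟨pr x, x.2⟩)⁻¹ * ((x : E) : G × P).2) * ((y : E) : G × P).2 := by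
            simp [mul_assoc]
        _ = _ := by rw [hc, mul_assoc])
  haveI : IsMulCommutative σ.ker :=
    ⟨⟨fun a b => Subtype.ext ((Subgroup.mem_center_iff.mp (hσ a.2) b).symm)⟩⟩
  let τ : E →* σ.ker := MonoidHom.transfer r
  let j : σ.ker → E := fun d => ⟨(1, d.1), by
    show π 1 = σ d.1
    rw [map_one, MonoidHom.mem_ker.mp d.2]⟩
  have hjS : ∀ d, j d ∈ ES := fun d => S.one_mem
  have hτj : ∀ d, τ (j d) = d ^ S.index := by
    intro d
    have hcen : ∀ e : E, e⁻¹ * j d * e = j d := by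
      intro e
      apply Subtype.ext
      refine Prod.ext (by simp [j]) ?_
      show ((e : G × P).2)⁻¹ * d.1 * (e : G × P).2 = d.1
      rw [mul_assoc, ← Subgroup.mem_center_iff.mp (hσ d.2), inv_mul_cancel_left]
    have hpow : ∀ (k : ℕ) (e : E), e⁻¹ * j d ^ k * e = j d ^ k := by
      intro k e
      have := (MulAut.conj e⁻¹).toMonoidHom.map_pow (j d) k
      simpa [hcen e] using this
    have := MonoidHom.transfer_eq_pow r (j d) (fun k g₀ _ => hpow k g₀)
    rw [show τ (j d) = _ from this]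
    apply Subtype.ext
    simp only [r, rv, MonoidHom.mk'_apply, SubmonoidClass.coe_pow, hidx, j]
    have : ι ⟨pr (j d ^ S.index), by rw [map_pow]; exact pow_mem S.one_mem _⟩ = 1 := by
      rw [← map_one ι]; exact congrArg ι (Subtype.ext (by simp [pr, j]))
    simp [pr, j] at this ⊢
    exact this
  have hcop : (Nat.card σ.ker).Coprime S.index := by
    obtain ⟨k, hk⟩ := IsPGroup.iff_card.mp hZ
    rw [hk]
    exact ((Fact.out : p.Prime).coprime_iff_not_dvd.mpr hS).pow_left k
  let f : τ.ker →* G := pr.comp τ.ker.subtype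
  have hf : Function.Bijective f := by
    constructor
    · rw [← MonoidHom.ker_eq_bot_iff, eq_bot_iff]
      intro x hx
      have h1 : ((x : E) : G × P).1 = 1 := hx
      have hd : ((x : E) : G × P).2 ∈ σ.ker := by
        rw [MonoidHom.mem_ker, ← hE x.1, h1, map_one]
      have hxj : (x : E) = j ⟨_, hd⟩ := Subtype.ext (Prod.ext h1 rfl)
      have h2 : (⟨_, hd⟩ : σ.ker) ^ S.index = 1 ^ S.index := by rw [one_pow, ← hτj, ← hxj]; exact x.2
      have h3 := congrArg Subtype.val ((Nat.Coprime.pow_left_bijective hcop).1 h2)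
      rw [Subgroup.mem_bot]
      exact Subtype.ext (Subtype.ext (Prod.ext h1 h3))
    · intro g
      obtain ⟨e, he⟩ := hpr g
      obtain ⟨d, hd⟩ := (Nat.Coprime.pow_left_bijective hcop).2 (τ e)
      refine ⟨⟨e * (j d)⁻¹, ?_⟩, ?_⟩
      · rw [MonoidHom.mem_ker, map_mul, map_inv, hτj, mul_inv_eq_one]; exact hd.symm
      · show pr (e * (j d)⁻¹) = g
        rw [map_mul, map_inv, he]
        simp [pr, j]
  let ψ := MulEquiv.ofBijective f hf
  refine ⟨((MonoidHom.snd G P).comp (E.subtype.comp τ.ker.subtype)).comp ψ.symm.toMonoidHom, fun g => ?_⟩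
  show σ (((ψ.symm g : τ.ker) : E) : G × P).2 = π g
  rw [← hE]
  exact congrArg π (ψ.apply_symm_apply g)

variable {G : Type*} [Group G] [Finite G] [hp : Fact p.Prime]

attribute [local instance] pResidual_normal

/-- Tate: if `P ∩ O^p(G) ≤ Φ(P)` then `G` has a normal `p`-complement. -/
theorem tate_residual (P : Sylow p G)
    (h : (Cfsg.pResidual p G).subgroupOf P ≤ frattini (P : Subgroup G)) : Cfsg.HasNormalPComplement p G := by
  rw [hasNormalPComplement_iff_inf P]
  by_contra hne
  set R := Cfsg.pResidual p G with hR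
  set D : Subgroup (P : Subgroup G) := R.subgroupOf P with hD
  have hDne : D ≠ ⊥ := fun hb => hne (by rwa [hD, Subgroup.subgroupOf_eq_bot, disjoint_iff] at hb)
  haveI hDn : D.Normal := Subgroup.normal_subgroupOf
  haveI := P.isPGroup'.isNilpotent
  -- a maximal normal subgroup below D
  obtain ⟨T, ⟨hTn, hTD⟩, hTmax⟩ := Set.Finite.exists_maximal
    (s := {T : Subgroup (P : Subgroup G) | T.Normal ∧ T < D}) (Set.toFinite _)
    ⟨⊥, inferInstance, bot_lt_iff_ne_bot.mpr hDne⟩
  haveI := hTn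
  let mk := QuotientGroup.mk' T
  let σ : (P : Subgroup G) ⧸ T →* G ⧸ R :=
    QuotientGroup.map T R (P : Subgroup G).subtype (fun x hx => hTD.le hx)
  have hker : σ.ker = D.map mk := by
    ext x
    obtain ⟨y, rfl⟩ := QuotientGroup.mk'_surjective T x
    constructor
    · intro hx
      exact ⟨y, (QuotientGroup.eq_one_iff (N := R) (y : G)).mp hx, rfl⟩
    · rintro ⟨z, hz, hzy⟩
      rw [← hzy, MonoidHom.mem_ker]
      exact (QuotientGroup.eq_one_iff (N := R) (z : G)).mpr hz
  have hcomm : ⁅D, (⊤ : Subgroup (P : Subgroup G))⁆ ≤ T := by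
    have hle : ⁅D, (⊤ : Subgroup (P : Subgroup G))⁆ ⊔ T ≤ D := sup_le (Subgroup.commutator_le_left _ _) hTD.le
    rcases hle.eq_or_lt with he | hlt
    · exfalso
      have h1 : D.map mk ≤ ⁅D.map mk, (⊤ : Subgroup ((P : Subgroup G) ⧸ T))⁆ := by
        conv_lhs => rw [← he, Subgroup.map_sup, QuotientGroup.map_mk'_self, sup_bot_eq, Subgroup.map_commutator]
        exact Subgroup.commutator_mono le_rfl le_top
      have h2 := eq_bot_of_le_commutator_top h1
      rw [Subgroup.map_eq_bot_iff, QuotientGroup.ker_mk'] at h2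
      exact hTD.not_ge h2
    · exact le_sup_left.trans (hTmax ⟨inferInstance, hlt⟩ le_sup_right)
  have hcen : σ.ker ≤ Subgroup.center _ := by
    rw [hker]
    rintro _ ⟨d, hd, rfl⟩
    rw [Subgroup.mem_center_iff]
    intro x
    obtain ⟨y, rfl⟩ := QuotientGroup.mk'_surjective T x
    have h1 : mk ⁅d, y⁆ = 1 := (QuotientGroup.eq_one_iff _).mpr
      (hcomm (Subgroup.commutator_mem_commutator hd (Subgroup.mem_top y)))
    rw [map_commutatorElement, commutatorElement_eq_one_iff_mul_comm] at h1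
    exact h1.symm
  have hsurj : ∀ g, ∃ u, σ u = QuotientGroup.mk' R g := by
    intro g
    obtain ⟨r, hr, x, hx, rfl⟩ : ∃ r ∈ R, ∃ x ∈ (P : Subgroup G), r * x = g :=
      Subgroup.mem_sup_of_normal_left.mp (by rw [hR, pResidual_sup_sylow]; trivial)
    refine ⟨mk ⟨x, hx⟩, ?_⟩
    rw [map_mul, (QuotientGroup.eq_one_iff r).mpr hr |> fun h => (h : QuotientGroup.mk' R r = 1), one_mul]
    rfl
  obtain ⟨φ, hφ⟩ := exists_lift_of_sylow (p := p) σ hcen ((P.isPGroup'.to_quotient T).to_subgroup _)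
    (QuotientGroup.mk' R) hsurj (P : Subgroup G) P.not_dvd_index mk (fun s => rfl)
  have htop : φ.range = ⊤ := by
    have h1 : φ.range.comap mk ⊔ frattini (P : Subgroup G) = ⊤ := by
      rw [eq_top_iff]
      intro y _
      have hy : mk y * (φ y)⁻¹ ∈ σ.ker := by
        rw [MonoidHom.mem_ker, map_mul, map_inv, hφ, mul_inv_eq_one]; rfl
      rw [hker] at hy
      obtain ⟨d, hd, hde⟩ := hy
      have : d⁻¹ * y ∈ φ.range.comap mk := by
        show mk (d⁻¹ * y) ∈ φ.range
        rw [map_mul, map_inv, hde, mul_inv_rev, inv_inv, inv_mul_cancel_right]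
        exact ⟨_, rfl⟩
      have h3 : y = d * (d⁻¹ * y) := by group
      rw [h3]
      exact mul_mem (Subgroup.mem_sup_right (h hd)) (Subgroup.mem_sup_left this)
    have h2 := frattini_nongenerating h1
    rw [eq_top_iff]
    intro x _
    obtain ⟨y, rfl⟩ := QuotientGroup.mk'_surjective T x
    exact (h2.ge (Subgroup.mem_top y) : y ∈ φ.range.comap mk)
  have hq : IsPGroup p (G ⧸ φ.ker) :=
    (P.isPGroup'.to_quotient T).of_injective (QuotientGroup.kerLift φ) (QuotientGroup.kerLift_injective φ)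
  have hRk := pResidual_le_of_isPGroup_quotient φ.ker hq
  apply hTD.not_ge
  intro d hd
  obtain ⟨g, hg⟩ : mk d ∈ φ.range := htop ▸ Subgroup.mem_top _
  have hgR : g ∈ R := by
    rw [← QuotientGroup.ker_mk' R, MonoidHom.mem_ker, ← hφ, hg]
    have : mk d ∈ σ.ker := hker ▸ Subgroup.mem_map_of_mem _ hd
    exact this
  rw [← QuotientGroup.ker_mk' T, MonoidHom.mem_ker]
  exact hg.symm.trans (hRk hgR)

/-- Tate: a normal subgroup meeting `P` in `Φ(P)` has a normal `p`-complement. -/
theorem tate (P : Sylow p G) (N : Subgroup G) [N.Normal]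
    (h : N ⊓ (P : Subgroup G) ≤ (frattini (P : Subgroup G)).map (P : Subgroup G).subtype) :
    Cfsg.HasNormalPComplement p N := by
  set L : Subgroup G := N ⊔ (P : Subgroup G) with hL
  let PL : Sylow p L := P.subtype le_sup_right
  have hN : N.subgroupOf L ≤ N.subgroupOf L := le_rfl
  haveI : (N.subgroupOf L).Normal := Subgroup.normal_subgroupOf
  have hq : IsPGroup p (L ⧸ N.subgroupOf L) := by
    refine P.isPGroup'.of_surjective
      ((QuotientGroup.mk' (N.subgroupOf L)).comp (Subgroup.inclusion (le_sup_right : (P : Subgroup G) ≤ L))) ?_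
    intro x
    obtain ⟨⟨y, hy⟩, rfl⟩ := QuotientGroup.mk'_surjective _ x
    obtain ⟨a, ha, b, hb, rfl⟩ := Subgroup.mem_sup_of_normal_left.mp hy
    refine ⟨⟨b, hb⟩, ?_⟩
    show QuotientGroup.mk' (N.subgroupOf L) _ = _
    rw [QuotientGroup.mk'_eq_mk']
    refine ⟨⟨b⁻¹ * a * b, ?_⟩, ?_, Subtype.ext ?_⟩
    · exact mul_mem (mul_mem (inv_mem (Subgroup.mem_sup_right hb)) (Subgroup.mem_sup_left ha)) (Subgroup.mem_sup_right hb)
    · show b⁻¹ * a * b ∈ N
      simpa using (inferInstance : N.Normal).conj_mem a ha b⁻¹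
    · simp [mul_assoc]
  have hres : Cfsg.pResidual p L ≤ N.subgroupOf L := pResidual_le_of_isPGroup_quotient _ hq
  have hLc : Cfsg.HasNormalPComplement p L := by
    refine tate_residual PL ?_
    intro y hy
    have hyN : ((y : L) : G) ∈ N := hres hy
    have hyP : ((y : L) : G) ∈ (P : Subgroup G) := y.2
    obtain ⟨z, hz, hzy⟩ := h ⟨hyN, hyP⟩
    let e : (P : Subgroup G) ≃* (PL : Subgroup L) :=
      (Subgroup.subgroupOfEquivOfLe (le_sup_right : (P : Subgroup G) ≤ L)).symm
    have he : e z = y := Subtype.ext (Subtype.ext hzy)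
    rw [← he]
    have hmap : frattini (P : Subgroup G) ≤ (frattini (PL : Subgroup L)).comap e.toMonoidHom :=
      frattini_le_comap_frattini_of_surjective e.surjective
    exact hmap hz
  exact hasNormalPComplement_of_injective (Subgroup.inclusion (le_sup_left : N ≤ L))
    (Subgroup.inclusion_injective _) hLc

end CfsgLib.Transfer
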