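import Mathlib.Algebra.Group.ForwardDiff
import Cfsg.Agent.Transfer.CocycleTransfer
import Cfsg.Agent.Transfer.Tate
import Cfsg.Agent.PGroup.Critical
import Cfsg.Prelude.Def_BaumannBlocks

/-!
Tate's transfer theorem and the Hall–Wielandt theorem.
-/

set_option autoImplicit false
set_option linter.style.haveILetI false

namespace CfsgLib.HallWielandt

open scoped commutatorElement
open CfsgLib.CocycleTransfer

variable {p : ℕ} [hp : Fact p.Prime]

theorem choose_pred_cast (hp' : p.Prime) : ∀ k, k < p → ((p - 1).choose k : ZMod p) = (-1) ^ k := by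
  intro k
  induction k with
  | zero => simp
  | succ k ih =>
    intro hk
    have h1 : p.choose (k + 1) = (p - 1).choose k + (p - 1).choose (k + 1) := by
      conv_lhs => rw [show p = p - 1 + 1 by have := hp'.pos; omega]
      rw [Nat.choose_succ_succ]
    have h2 : ((p.choose (k + 1) : ℕ) : ZMod p) = 0 :=
      (CharP.cast_eq_zero_iff (ZMod p) p _).2 (hp'.dvd_choose_self (by omega) hk)
    rw [h1, Nat.cast_add, ih (by omega)] at h2
    rw [pow_succ]
    linear_combination h2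

/-- In exponent `p` the `(p-1)`-st difference is the norm. -/
theorem fwdDiff_eq_norm {A : Type*} [AddCommGroup A] (hA : ∀ a : A, p • a = 0) (f : ℕ → A) :
    (fwdDiff 1)^[p - 1] f 0 = ∑ k ∈ Finset.range p, f k := by
  have hp1 := hp.out.pos
  rw [fwdDiff_iter_eq_sum_shift, show p - 1 + 1 = p by omega]
  refine Finset.sum_congr rfl fun k hk => ?_
  rw [Finset.mem_range] at hk
  have hz : ((((-1 : ℤ) ^ (p - 1 - k) * (p - 1).choose k : ℤ)) : ZMod p) = ((1 : ℤ) : ZMod p) := by
    push_cast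
    rw [choose_pred_cast hp.out k hk, ← pow_add, show p - 1 - k + k = p - 1 by omega,
      ZMod.pow_card_sub_one_eq_one (neg_ne_zero.2 one_ne_zero)]
  obtain ⟨c, hc⟩ := (ZMod.intCast_eq_intCast_iff_dvd_sub _ _ p).1 hz.symm
  have hc' : ((-1 : ℤ) ^ (p - 1 - k) * (p - 1).choose k) = 1 + (p : ℤ) * c := by omega
  rw [hc', add_smul, one_smul, mul_comm, mul_smul, natCast_zsmul, hA, smul_zero, add_zero, zero_add, smul_eq_mul, mul_one]

variable {G : Type*} [Group G]

/-- The Engel condition makes the norm of a homomorphism vanish. -/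
theorem engel_norm {B : Type*} [CommGroup B] (hB : ∀ b : B, b ^ p = 1) (M : Subgroup G) {z : G}
    (hz : ∀ m ∈ M, z⁻¹ * m * z ∈ M) (f : G → B) (hf : ∀ a ∈ M, ∀ b ∈ M, f (a * b) = f a * f b) {x : G}
    (hx : x ∈ M) (he : f ((fun y : G => y⁻¹ * z⁻¹ * y * z)^[p - 1] x) = 1) :
    ∏ i ∈ Finset.range p, f ((z ^ i)⁻¹ * x * z ^ i) = 1 := by
  have hzi : ∀ (i : ℕ), ∀ m ∈ M, (z ^ i)⁻¹ * m * z ^ i ∈ M := by
    intro i
    induction i with
    | zero => simp
    | succ i ih =>
      intro m hm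
      have h := hz _ (ih m hm)
      rwa [show (z ^ (i + 1))⁻¹ * m * z ^ (i + 1) = z⁻¹ * ((z ^ i)⁻¹ * m * z ^ i) * z by
        rw [pow_succ]; group]
  set d := fun y : G => y⁻¹ * z⁻¹ * y * z with hd
  have hdM : ∀ n, d^[n] x ∈ M := by
    intro n
    induction n with
    | zero => simpa
    | succ n ih =>
      rw [Function.iterate_succ_apply']
      have h := M.mul_mem (M.inv_mem ih) (hz _ ih)
      simpa only [hd, mul_assoc] using h
  let F : ℕ → ℕ → Additive B := fun n i => Additive.ofMul (f ((z ^ i)⁻¹ * d^[n] x * z ^ i))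
  have hrec : ∀ n, F (n + 1) = fwdDiff 1 (F n) := by
    intro n
    funext i
    set y := d^[n] x with hy
    have e : (z ^ i)⁻¹ * d y * z ^ i = ((z ^ i)⁻¹ * y * z ^ i)⁻¹ * ((z ^ (i + 1))⁻¹ * y * z ^ (i + 1)) := by
      rw [hd]; group
    have h1 := hzi i y (hdM n)
    have h2 := hzi (i + 1) y (hdM n)
    have h3 : f (1 : G) = 1 := by
      have := hf 1 M.one_mem 1 M.one_mem
      rw [one_mul] at this
      exact mul_eq_left.1 this.symm
    have h4 : f ((z ^ i)⁻¹ * y * z ^ i)⁻¹ = (f ((z ^ i)⁻¹ * y * z ^ i))⁻¹ := by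
      refine eq_inv_of_mul_eq_one_left ?_
      rw [← hf _ (M.inv_mem h1) _ h1, inv_mul_cancel, h3]
    show Additive.ofMul (f ((z ^ i)⁻¹ * d^[n + 1] x * z ^ i)) =
      Additive.ofMul (f ((z ^ (i + 1))⁻¹ * y * z ^ (i + 1)) / f ((z ^ i)⁻¹ * y * z ^ i))
    rw [Function.iterate_succ_apply', ← hy, e, hf _ (M.inv_mem h1) _ h2, h4, mul_comm, div_eq_mul_inv]
  have hiter : ∀ n, (fwdDiff 1)^[n] (F 0) = F n := by
    intro n
    induction n with
    | zero => rfl
    | succ n ih => rw [Function.iterate_succ_apply', ih, hrec]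
  have h := fwdDiff_eq_norm (p := p) (A := Additive B) (fun a => hB a) (F 0)
  rw [hiter] at h
  have h3 : f (1 : G) = 1 := by
    have := hf 1 M.one_mem 1 M.one_mem
    rw [one_mul] at this
    exact mul_eq_left.1 this.symm
  have h5 : F (p - 1) 0 = 0 := by
    show Additive.ofMul (f ((z ^ 0)⁻¹ * d^[p - 1] x * z ^ 0)) = 0
    rw [pow_zero, inv_one, one_mul, mul_one, he]; rfl
  rw [h5] at h
  exact h.symm

variable [Finite G]

/-- The `p - 1`-fold commutators `[u, z, …, z]` lie in the Frattini subgroup of every maximal subgroup of `Q` containing them. -/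
def WeakEngel (p : ℕ) {G : Type*} [Group G] (P Q : Subgroup G) : Prop :=
  ∀ u ∈ P, ∀ z ∈ Q, ∀ W₀ : Subgroup Q, IsCoatom W₀ →
    (fun y : G => y⁻¹ * z⁻¹ * y * z)^[p - 1] u ∈ W₀.map Q.subtype →
      (fun y : G => y⁻¹ * z⁻¹ * y * z)^[p - 1] u ∈ ((frattini W₀).map W₀.subtype).map Q.subtype

omit hp [Finite G] in
theorem weakEngel_of_engel {P Q : Subgroup G}
    (he : ∀ u ∈ P, ∀ z ∈ Q, (fun y : G => y⁻¹ * z⁻¹ * y * z)^[p - 1] u = 1) : WeakEngel p P Q :=
  fun u hu z hz W₀ _ _ => by rw [he u hu z hz]; exact one_mem _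

/-- Conjugate a `p`-subgroup of `H` into `P` inside `H`. -/
theorem exists_conj_le (P : Sylow p G) {H A : Subgroup G} (hPH : (P : Subgroup G) ≤ H) (hAH : A ≤ H)
    (hA : IsPGroup p A) : ∃ k ∈ H, ∀ a ∈ A, k * a * k⁻¹ ∈ (P : Subgroup G) := by
  obtain ⟨R, hR⟩ := IsPGroup.exists_le_sylow (hA.of_equiv (Subgroup.subgroupOfEquivOfLe hAH).symm)
  obtain ⟨k, hk⟩ := MulAction.exists_smul_eq H R (P.subtype hPH)
  refine ⟨k, k.2, fun a ha => ?_⟩
  have h : k * (⟨a, hAH ha⟩ : H) * k⁻¹ ∈ ((k • R : Sylow p H) : Subgroup H) := by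
    rw [Sylow.coe_subgroup_smul]
    exact ⟨⟨a, hAH ha⟩, hR (show (⟨a, hAH ha⟩ : H) ∈ A.subgroupOf H from ha), rfl⟩
  rw [hk] at h
  exact h

/-- Hall–Wielandt: transfer control modulo `p`-th powers. -/
theorem exists_surjective (P : Sylow p G) {Q : Subgroup G} (hQ : Cfsg.IsWeaklyClosed Q (P : Subgroup G))
    {H : Subgroup G} (hPH : (P : Subgroup G) ≤ H) (hN : ∀ g : G, Q.map (MulAut.conj g).toMonoidHom = Q → g ∈ H)
    (hnorm : ∀ u ∈ (P : Subgroup G), ∀ z ∈ Q, u⁻¹ * z * u ∈ Q) (he : WeakEngel p (P : Subgroup G) Q)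
    {B : Type*} [CommGroup B] (hB : ∀ b : B, b ^ p = 1) (π : H →* B)
    (hπ : ∀ b, ∃ (x : G) (hx : x ∈ (P : Subgroup G)), π ⟨x, hPH hx⟩ = b) :
    ∃ τ : G →* B, ∀ b, ∃ x ∈ (P : Subgroup G), τ x = b := by
  classical
  haveI : Fintype (G ⧸ H) := Fintype.ofFinite _
  refine ⟨tr π, fun b => ?_⟩
  let W : Subgroup B := (P : Subgroup G).map (tr π)
  suffices key : ∀ (n : ℕ) (x : G) (hx : x ∈ (P : Subgroup G)), orderOf x = n → π ⟨x, hPH hx⟩ ∈ W by
    obtain ⟨x, hx, rfl⟩ := hπ b
    exact key _ x hx rfl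
  intro n
  induction n using Nat.strong_induction_on with
  | _ n ih =>
  intro x hx hn
  obtain ⟨k, hk⟩ : ∃ k, orderOf x = p ^ k := by
    obtain ⟨k, hk⟩ := IsPGroup.iff_orderOf.1 P.isPGroup' ⟨x, hx⟩
    exact ⟨k, by rw [Subgroup.orderOf_mk] at hk; exact hk⟩
  have hsmall : ∀ (g : G) (h : H), (∃ m : ℕ, (h : G) = g⁻¹ * x ^ m * g) → orderOf h < orderOf x → π h ∈ W := by
    rintro g h ⟨m, hm⟩ hlt
    have hpg : IsPGroup p (Subgroup.zpowers (h : G)) := by
      obtain ⟨j, -, hj⟩ := (Nat.dvd_prime_pow hp.out).1 (show orderOf (h : G) ∣ p ^ k by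
        rw [hm, show g⁻¹ * x ^ m * g = MulAut.conj g⁻¹ (x ^ m) by simp, MulEquiv.orderOf_eq, ← hk]
        exact orderOf_pow_dvd m)
      exact IsPGroup.of_card (n := j) ((Nat.card_zpowers (h : G)).trans hj)
    obtain ⟨t, ht, htP⟩ := exists_conj_le P hPH (Subgroup.zpowers_le.2 h.2) hpg
    have h' := htP _ (Subgroup.mem_zpowers _)
    have e : π ⟨_, hPH h'⟩ = π h := by
      rw [show (⟨_, hPH h'⟩ : H) = ⟨t, ht⟩ * h * (⟨t, ht⟩ : H)⁻¹ from Subtype.ext rfl, map_mul, map_mul,
        map_inv, mul_comm (π ⟨t, ht⟩), mul_inv_cancel_right]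
    rw [← e]
    refine ih _ ?_ _ h' rfl
    rw [show t * (h : G) * t⁻¹ = MulAut.conj t (h : G) from rfl, MulEquiv.orderOf_eq, Subgroup.orderOf_coe, ← hn]
    exact hlt
  -- invariant sets without fixed points of `Q`
  let L : Subgroup G := Q ⊔ Subgroup.zpowers x
  have hLP : L ≤ (P : Subgroup G) := sup_le hQ.1 (Subgroup.zpowers_le.2 hx)
  have hmain : ∀ S : Finset (G ⧸ H), (∀ y ∈ L, ∀ q ∈ S, y • q ∈ S) → (∀ q ∈ S, ∃ z ∈ Q, z • q ≠ q) →
      ∏ q ∈ S, w π x q ∈ W := by
    intro S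
    induction S using Finset.strongInduction with
    | _ S ihS =>
    intro hS hmove
    rcases S.eq_empty_or_nonempty with rfl | ⟨q, hq⟩
    · simp
    set O := S.filter (fun y => ∃ l ∈ L, l • q = y) with hO
    have hOS : O ⊆ S := Finset.filter_subset _ _
    have hqO : q ∈ O := Finset.mem_filter.2 ⟨hq, 1, L.one_mem, one_smul _ _⟩
    have hOinv : ∀ l ∈ L, ∀ y ∈ O, l • y ∈ O := by
      intro l hl y hy
      obtain ⟨hyS, m, hm, rfl⟩ := Finset.mem_filter.1 hy
      exact Finset.mem_filter.2 ⟨hS l hl _ hyS, l * m, L.mul_mem hl hm, mul_smul _ _ _⟩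
    rw [← Finset.prod_sdiff hOS]
    refine W.mul_mem (ihS _ (Finset.sdiff_ssubset hOS ⟨q, hqO⟩) (fun l hl y hy =>
      Finset.mem_sdiff.2 ⟨hS l hl y (Finset.mem_sdiff.1 hy).1, fun h => (Finset.mem_sdiff.1 hy).2 ?_⟩)
      fun y hy => hmove y (Finset.mem_sdiff.1 hy).1) ?_
    · simpa using hOinv l⁻¹ (L.inv_mem hl) _ h
    -- a maximal subgroup over the stabilizer
    obtain ⟨z₀, hz₀, hz₀q⟩ := hmove q hq
    set K := (MulAction.stabilizer G q).subgroupOf L with hK
    have hKtop : K ≠ ⊤ := fun h => hz₀q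
      (Subgroup.subgroupOf_eq_top.1 h (show z₀ ∈ L from Subgroup.mem_sup_left hz₀))
    obtain ⟨M, hM, hKM⟩ := (eq_top_or_exists_le_coatom K).resolve_left hKtop
    have hLp : IsPGroup p L := P.isPGroup'.to_le hLP
    haveI := hLp.isNilpotent
    haveI hMn : M.Normal := Subgroup.NormalizerCondition.normal_of_coatom M Group.normalizerCondition_of_isNilpotent hM
    have hMi : M.index = p := (CfsgLib.PGroup.index_coatom hLp hM).2
    have hMG : ∀ m ∈ M.map L.subtype, ∀ l ∈ L, l * m * l⁻¹ ∈ M.map L.subtype := by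
      rintro _ ⟨m, hm, rfl⟩ l hl
      exact ⟨⟨l, hl⟩ * m * ⟨l, hl⟩⁻¹, hMn.conj_mem m hm _, rfl⟩
    have hstab : ∀ y : L, (y : G) • q = q → y ∈ M := fun y hy => hKM hy
    by_cases hxM : (⟨x, Subgroup.mem_sup_right (Subgroup.mem_zpowers x)⟩ : L) ∈ M
    swap
    · refine prod_mem_of_no_fixed π W hk hsmall O (hOinv x (Subgroup.mem_sup_right (Subgroup.mem_zpowers x))) ?_
      intro y hy hfix
      obtain ⟨-, l, hl, rfl⟩ := Finset.mem_filter.1 hy
      apply hxM
      set xL : L := ⟨x, Subgroup.mem_sup_right (Subgroup.mem_zpowers x)⟩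
      have h1 : (⟨l, hl⟩ : L)⁻¹ * xL * ⟨l, hl⟩ ∈ M := hstab _ (by
        show (l⁻¹ * x * l) • q = q
        rw [mul_smul, mul_smul, hfix, inv_smul_smul])
      have h2 := hMn.conj_mem _ h1 ⟨l, hl⟩
      simpa [mul_assoc] using h2
    · obtain ⟨z, hzQ, hzM⟩ : ∃ z : L, (z : G) ∈ Q ∧ z ∉ M := by
        by_contra hh
        push Not at hh
        refine hM.1 (eq_top_iff.2 fun y _ => ?_)
        have hle : L ≤ M.map L.subtype := sup_le (fun a ha => ⟨⟨a, Subgroup.mem_sup_left ha⟩, hh _ ha, rfl⟩)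
          (Subgroup.zpowers_le.2 ⟨_, hxM, rfl⟩)
        obtain ⟨y', hy', hyy⟩ := hle y.2
        exact Subtype.ext hyy ▸ hy'
      set M' := M.map L.subtype with hM'
      have hzp : z ^ p ∈ M := hMi ▸ M.pow_index_mem z
      have hzmod : ∀ i : ℤ, z ^ i ∈ M → (p : ℤ) ∣ i := by
        intro i hi
        have hord : orderOf (QuotientGroup.mk' M z) = p := orderOf_eq_prime
          (by rw [← map_pow]; exact (QuotientGroup.eq_one_iff _).2 hzp) fun h => hzM ((QuotientGroup.eq_one_iff _).1 h)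
        have h1 : (QuotientGroup.mk' M z) ^ i = 1 := by rw [← map_zpow]; exact (QuotientGroup.eq_one_iff _).2 hi
        have h2 := orderOf_dvd_iff_zpow_eq_one.2 h1
        rwa [hord] at h2
      have hdec : ∀ l : L, ∃ i < p, ∃ m ∈ M, l = z ^ i * m := by
        intro l
        have htop : M ⊔ Subgroup.zpowers z = ⊤ :=
          hM.2 _ (lt_of_le_of_ne le_sup_left fun h => hzM (h.ge (Subgroup.mem_sup_right (Subgroup.mem_zpowers z))))
        obtain ⟨m, hm, t, ht, rfl⟩ := Subgroup.mem_sup_of_normal_left.1 (htop.ge (Subgroup.mem_top l))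
        obtain ⟨j, rfl⟩ := Subgroup.mem_zpowers_iff.1 ht
        have hp0 : (p : ℤ) ≠ 0 := by exact_mod_cast hp.out.ne_zero
        obtain ⟨i, hi⟩ := Int.eq_ofNat_of_zero_le (Int.emod_nonneg j hp0)
        refine ⟨i, ?_, (z ^ i)⁻¹ * (m * z ^ j), ?_, by group⟩
        · have := Int.emod_lt_of_pos j (show (0 : ℤ) < p by exact_mod_cast hp.out.pos)
          omega
        · have h1 := hMn.conj_mem m hm (z ^ i)⁻¹
          have h2 : (z ^ i)⁻¹ * z ^ j ∈ M := by
            rw [← zpow_natCast, ← zpow_neg, ← zpow_add, show -(i : ℤ) + j = (p : ℤ) * (j / p) by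
              have := Int.emod_add_ediv_mul j p; rw [mul_comm]; omega, zpow_mul, zpow_natCast]
            exact zpow_mem hzp _
          have h3 := M.mul_mem h1 h2
          rwa [show (z ^ i)⁻¹ * m * (z ^ i)⁻¹⁻¹ * ((z ^ i)⁻¹ * z ^ j) = (z ^ i)⁻¹ * (m * z ^ j) by group] at h3
      set S₀ := S.filter (fun y => ∃ m ∈ M', m • q = y) with hS₀
      have hM'L : M' ≤ L := Subgroup.map_subtype_le M
      have hS₀inv : ∀ m ∈ M', ∀ y ∈ S₀, m • y ∈ S₀ := by
        intro m hm y hy
        obtain ⟨hyS, m', hm', rfl⟩ := Finset.mem_filter.1 hy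
        exact Finset.mem_filter.2 ⟨hS m (hM'L hm) _ hyS, m * m', M'.mul_mem hm hm', mul_smul _ _ _⟩
      have hOeq : O = (Finset.range p).biUnion fun i => S₀.image ((z : G) ^ i • ·) := by
        ext y
        simp only [Finset.mem_biUnion, Finset.mem_range, Finset.mem_image]
        constructor
        · intro hy
          obtain ⟨-, l, hl, rfl⟩ := Finset.mem_filter.1 hy
          obtain ⟨i, hi, m, hm, hlm⟩ := hdec ⟨l, hl⟩
          refine ⟨i, hi, (m : G) • q, Finset.mem_filter.2 ⟨hS _ m.2 q hq, m, ⟨m, hm, rfl⟩, rfl⟩, ?_⟩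
          rw [← mul_smul]
          exact congrArg (· • q) (congrArg Subtype.val hlm).symm
        · rintro ⟨i, -, y', hy', rfl⟩
          obtain ⟨hyS, m, hm, rfl⟩ := Finset.mem_filter.1 hy'
          exact hOinv _ (L.pow_mem z.2 i) _ (Finset.mem_filter.2 ⟨hyS, m, hM'L hm, rfl⟩)
      have hdisj : ((Finset.range p : Finset ℕ) : Set ℕ).PairwiseDisjoint fun i => S₀.image ((z : G) ^ i • ·) := by
        intro i hi j hj hij
        simp only [Finset.coe_range, Set.mem_Iio] at hi hj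
        rw [Function.onFun, Finset.disjoint_left]
        intro y hy hy'
        obtain ⟨a, ha, rfl⟩ := Finset.mem_image.1 hy
        obtain ⟨b, hb, hab⟩ := Finset.mem_image.1 hy'
        obtain ⟨-, _, ⟨m₁, hm₁, rfl⟩, rfl⟩ := Finset.mem_filter.1 ha
        obtain ⟨-, _, ⟨m₂, hm₂, rfl⟩, rfl⟩ := Finset.mem_filter.1 hb
        have hfix : (((z ^ i * m₁)⁻¹ * (z ^ j * m₂) : L) : G) • q = q := by
          simp only [Subgroup.coe_mul, Subgroup.coe_inv, SubmonoidClass.coe_pow, mul_smul]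
          rw [inv_smul_eq_iff, mul_smul]
          exact hab
        have h1 := M.mul_mem (M.mul_mem hm₁ (hstab _ hfix)) (M.inv_mem hm₂)
        have h2 : z ^ (-(i : ℤ) + j) ∈ M := by
          rw [zpow_add, zpow_neg, zpow_natCast, zpow_natCast]
          convert h1 using 1
          group
        obtain ⟨c, hc⟩ := hzmod _ h2
        have hc0 : c = 0 := by
          by_contra hc0
          have := Int.natAbs_mul (p : ℤ) c
          rw [← hc, Int.natAbs_natCast] at this
          have h3 : p * 1 ≤ p * c.natAbs := Nat.mul_le_mul_left _ (Int.natAbs_pos.2 hc0)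
          omega
        rw [hc0, mul_zero] at hc
        omega
      have hxM' : x ∈ M' := ⟨_, hxM, rfl⟩
      rw [hOeq, Finset.prod_biUnion hdisj]
      rw [Finset.prod_congr rfl fun i _ => Finset.prod_image fun a _ b _ h => MulAction.injective ((z : G) ^ i) h]
      have hconj : ∀ i : ℕ, ((z : G) ^ i)⁻¹ * x * (z : G) ^ i ∈ M' := fun i => by
        simpa using hMG x hxM' _ (L.inv_mem (L.pow_mem z.2 i))
      have hterm : ∀ i : ℕ, ∏ y ∈ S₀, w π x ((z : G) ^ i • y) =
          ∏ y ∈ S₀, w π (((z : G) ^ i)⁻¹ * x * (z : G) ^ i) y := by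
        intro i
        have e1 : ∀ y, w π (x * (z : G) ^ i) y = w π ((z : G) ^ i * (((z : G) ^ i)⁻¹ * x * (z : G) ^ i)) y :=
          fun y => by rw [← mul_assoc, mul_inv_cancel_left]
        have e2 := Finset.prod_congr rfl fun y (_ : y ∈ S₀) => e1 y
        have l1 : ∏ y ∈ S₀, w π (x * (z : G) ^ i) y =
            (∏ y ∈ S₀, w π x ((z : G) ^ i • y)) * ∏ y ∈ S₀, w π ((z : G) ^ i) y := by
          simp only [w_mul, Finset.prod_mul_distrib]
        rw [l1, prod_mul_of_invariant π ((z : G) ^ i) (hS₀inv _ (hconj i))] at e2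
        rwa [mul_comm (∏ y ∈ S₀, w π ((z : G) ^ i) y), mul_left_inj] at e2
      let f : G → B := fun m => ∏ y ∈ S₀, w π m y
      have hf : ∀ a ∈ M', ∀ b ∈ M', f (a * b) = f a * f b :=
        fun a _ b hb => prod_mul_of_invariant π a (hS₀inv b hb)
      have hzM' : ∀ m ∈ M', (z : G)⁻¹ * m * z ∈ M' := fun m hm => by
        simpa using hMG m hm _ (L.inv_mem z.2)
      set d := fun y : G => y⁻¹ * (z : G)⁻¹ * y * z with hd
      set y := d^[p - 1] x with hy
      have hyM : y ∈ M' := by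
        have : ∀ n, d^[n] x ∈ M' := by
          intro n
          induction n with
          | zero => simpa
          | succ n ihn =>
            rw [Function.iterate_succ_apply']
            simpa only [hd, mul_assoc] using M'.mul_mem (M'.inv_mem ihn) (hzM' _ ihn)
        exact this _
      have hyQ : y ∈ Q := by
        have : ∀ n, d^[n] x ∈ (P : Subgroup G) ∧ d^[n + 1] x ∈ Q := by
          intro n
          induction n with
          | zero =>
            refine ⟨hx, ?_⟩
            simpa [hd, mul_assoc] using Q.mul_mem (hnorm x hx _ (Q.inv_mem hzQ)) hzQ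
          | succ n ihn =>
            refine ⟨hQ.1 ihn.2, ?_⟩
            rw [Function.iterate_succ_apply' d (n + 1)]
            exact Q.mul_mem (Q.mul_mem (Q.mul_mem (Q.inv_mem ihn.2) (Q.inv_mem hzQ)) ihn.2) hzQ
        have h2 := (this (p - 2)).2
        rwa [show p - 2 + 1 = p - 1 by have := hp.out.two_le; omega] at h2
      -- a maximal subgroup of `Q`
      set W₀ := M'.subgroupOf Q with hW₀
      have hW₀c : IsCoatom W₀ := by
        refine ⟨fun h => hzM ?_, fun V hV => ?_⟩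
        · obtain ⟨a, ha, hae⟩ := (h.ge (Subgroup.mem_top (⟨(z : G), hzQ⟩ : Q)) : (z : G) ∈ M')
          exact Subtype.ext hae ▸ ha
        obtain ⟨⟨v, hvQ⟩, hvV, hvW⟩ := SetLike.exists_of_lt hV
        obtain ⟨i, hi, m, hm, hlm⟩ := hdec ⟨v, Subgroup.mem_sup_left hvQ⟩
        have hlm' : v = (z : G) ^ i * m := congrArg Subtype.val hlm
        let zQ : Q := ⟨(z : G), hzQ⟩
        have hmQ : (m : G) ∈ Q := by
          rw [show (m : G) = ((z : G) ^ i)⁻¹ * v by rw [hlm', inv_mul_cancel_left]]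
          exact Q.mul_mem (Q.inv_mem (Q.pow_mem hzQ i)) hvQ
        have hmV : (⟨m, hmQ⟩ : Q) ∈ V := hV.le (show (m : G) ∈ M' from ⟨m, hm, rfl⟩)
        have hzi : zQ ^ i ∈ V := by
          rw [show zQ ^ i = ⟨v, hvQ⟩ * (⟨m, hmQ⟩ : Q)⁻¹ from Subtype.ext (by simp [zQ, hlm'])]
          exact V.mul_mem hvV (V.inv_mem hmV)
        have hi0 : i ≠ 0 := fun h0 => hvW (show v ∈ M' from ⟨m, hm, by rw [hlm', h0, pow_zero, one_mul]; rfl⟩)
        have hzpV : zQ ^ p ∈ V := hV.le (show (z : G) ^ p ∈ M' from ⟨z ^ p, hzp, rfl⟩)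
        have hzV : zQ ∈ V := by
          have hg : Int.gcd (i : ℤ) p = 1 := by
            rw [Int.gcd_natCast_natCast]
            exact Nat.Coprime.gcd_eq_one (Nat.coprime_comm.1 (hp.out.coprime_iff_not_dvd.2 fun h =>
              absurd (Nat.le_of_dvd (Nat.pos_of_ne_zero hi0) h) (by omega)))
          have e := Int.gcd_eq_gcd_ab (i : ℤ) p
          rw [hg, Nat.cast_one] at e
          rw [← zpow_one zQ, e, zpow_add, zpow_mul, zpow_mul, zpow_natCast, zpow_natCast]
          exact V.mul_mem (V.zpow_mem hzi _) (V.zpow_mem hzpV _)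
        refine eq_top_iff.2 fun ⟨u, huQ⟩ _ => ?_
        obtain ⟨j, -, m', hm', hlm⟩ := hdec ⟨u, Subgroup.mem_sup_left huQ⟩
        have hlm' : u = (z : G) ^ j * m' := congrArg Subtype.val hlm
        have hmQ' : (m' : G) ∈ Q := by
          rw [show (m' : G) = ((z : G) ^ j)⁻¹ * u by rw [hlm', inv_mul_cancel_left]]
          exact Q.mul_mem (Q.inv_mem (Q.pow_mem hzQ j)) huQ
        rw [show (⟨u, huQ⟩ : Q) = zQ ^ j * ⟨m', hmQ'⟩ from Subtype.ext (by simp [zQ, hlm'])]
        exact V.mul_mem (V.pow_mem hzV j) (hV.le (show (m' : G) ∈ M' from ⟨m', hm', rfl⟩))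
      obtain ⟨_, ⟨u, hu, rfl⟩, hue⟩ := he x hx z hzQ W₀ hW₀c ⟨⟨y, hyQ⟩, hyM, rfl⟩
      let fW : W₀ →* B := MonoidHom.mk' (fun a => f ((a : Q) : G)) fun a b => hf _ a.2 _ b.2
      have hker : frattini W₀ ≤ fW.ker := CfsgLib.PGroup.frattini_le_of_elementary (p := p)
        (fun a b => by rw [MonoidHom.mem_ker, map_commutatorElement, commutatorElement_eq_one_iff_mul_comm]; exact mul_comm _ _)
        fun a => by rw [MonoidHom.mem_ker, map_pow]; exact hB _
      have hfy : f y = 1 := by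
        rw [hy, ← hue]
        exact MonoidHom.mem_ker.1 (hker hu)
      rw [Finset.prod_congr rfl fun i _ => hterm i, engel_norm hB M' hzM' f hf hxM' hfy]
      exact W.one_mem
  -- the base point is the only fixed point of `Q`
  set q₀ : G ⧸ H := ((1 : G) : G ⧸ H) with hq₀
  have hbase : ∀ y ∈ L, y • q₀ = q₀ := fun y hy => by
    rw [hq₀, MulAction.Quotient.smul_mk, QuotientGroup.eq]
    simpa using H.inv_mem (hPH (hLP hy))
  have hrest : ∏ q ∈ Finset.univ.erase q₀, w π x q ∈ W := by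
    refine hmain _ (fun y hy q hq => Finset.mem_erase.2 ⟨fun h => (Finset.mem_erase.1 hq).1 ?_, Finset.mem_univ _⟩) ?_
    · exact MulAction.injective y (h.trans (hbase y hy).symm)
    intro q hq
    by_contra hh
    push Not at hh
    refine (Finset.mem_erase.1 hq).1 ?_
    set g := q.out with hg
    let A : Subgroup G := Q.map (MulAut.conj g⁻¹).toMonoidHom
    have hAH : A ≤ H := by
      rintro _ ⟨z, hz, rfl⟩
      obtain ⟨hm, -⟩ := w_of_fixed π (hh z hz)
      simpa [mul_assoc] using hm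
    obtain ⟨t, ht, htP⟩ := exists_conj_le P hPH hAH ((P.isPGroup'.to_le hQ.1).map _)
    have h1 := hQ.2 (t * g⁻¹) (by
      rintro _ ⟨z, hz, rfl⟩
      have := htP _ ⟨z, hz, rfl⟩
      simpa [mul_assoc] using this)
    have h2 : t * g⁻¹ ∈ H := hN _ h1
    have h3 := H.mul_mem (H.inv_mem ht) h2
    rw [inv_mul_cancel_left] at h3
    rw [← QuotientGroup.out_eq' q, hq₀, QuotientGroup.eq, ← hg, mul_one]
    exact h3
  have htr : tr π x = π ⟨x, hPH hx⟩ * ∏ q ∈ Finset.univ.erase q₀, w π x q := by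
    rw [tr_apply, ← Finset.mul_prod_erase _ _ (Finset.mem_univ q₀), w_base π (hPH hx)]
  have h1 : tr π x ∈ W := ⟨x, hx, rfl⟩
  rw [htr] at h1
  exact (W.mul_mem_cancel_right hrest).1 h1

/-- Tate: transfer control modulo the Frattini subgroup gives control of the `p`-residual. -/
theorem tate_control (P : Sylow p G) (H : Subgroup G) (hPH : (P : Subgroup G) ≤ H)
    (h : (Cfsg.pResidual p G).subgroupOf (P : Subgroup G) ≤
      (Cfsg.pResidualOf p H).subgroupOf (P : Subgroup G) ⊔ frattini (P : Subgroup G)) :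
    (Cfsg.pResidual p G).subgroupOf (P : Subgroup G) ≤ (Cfsg.pResidualOf p H).subgroupOf (P : Subgroup G) := by
  haveI hRn : (Cfsg.pResidual p G).Normal := CfsgLib.Transfer.pResidual_normal
  set R := Cfsg.pResidual p G with hR
  set E := (Cfsg.pResidualOf p H).subgroupOf (P : Subgroup G) with hE
  set D := R.subgroupOf (P : Subgroup G) with hD
  haveI hDn : D.Normal := Subgroup.normal_subgroupOf
  haveI hHn : (Cfsg.pResidual p H).Normal := CfsgLib.Transfer.pResidual_normal
  let inc : (P : Subgroup G) →* H := Subgroup.inclusion hPH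
  have hEc : E = (Cfsg.pResidual p H).comap inc := by
    ext y
    exact Subgroup.mem_map_iff_mem H.subtype_injective (x := inc y)
  haveI hEn : E.Normal := hEc ▸ inferInstance
  have hRH : (Cfsg.pResidual p H).map H.subtype ≤ R := CfsgLib.Transfer.map_pResidual_le H.subtype
  have hED : E ≤ D := fun y hy => hRH hy
  by_contra hne
  have hlt : E < D := lt_of_le_not_ge hED hne
  obtain ⟨T, ⟨hTn, hET, hTD⟩, hTmax⟩ := Set.Finite.exists_maximal
    (s := {T : Subgroup (P : Subgroup G) | T.Normal ∧ E ≤ T ∧ T < D}) (Set.toFinite _) ⟨E, hEn, le_rfl, hlt⟩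
  haveI := hTn
  haveI := P.isPGroup'.isNilpotent
  let mk := QuotientGroup.mk' T
  let σ : (P : Subgroup G) ⧸ T →* G ⧸ R :=
    QuotientGroup.map T R (P : Subgroup G).subtype (fun x hx => hTD.le hx)
  have hker : σ.ker = D.map mk := by
    ext x
    obtain ⟨y, rfl⟩ := QuotientGroup.mk'_surjective T x
    constructor
    · intro hx
      exact ⟨y, (QuotientGroup.eq_one_iff (N := R) (y : G)).mp hx, rfl⟩
    · rintro ⟨z, hz, hzy⟩
      rw [← hzy, MonoidHom.mem_ker]
      exact (QuotientGroup.eq_one_iff (N := R) (z : G)).mpr hz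
  have hcomm : ⁅D, (⊤ : Subgroup (P : Subgroup G))⁆ ≤ T := by
    have hle : ⁅D, (⊤ : Subgroup (P : Subgroup G))⁆ ⊔ T ≤ D := sup_le (Subgroup.commutator_le_left _ _) hTD.le
    rcases hle.eq_or_lt with he | hlt
    · exfalso
      have h1 : D.map mk ≤ ⁅D.map mk, (⊤ : Subgroup ((P : Subgroup G) ⧸ T))⁆ := by
        conv_lhs => rw [← he, Subgroup.map_sup, QuotientGroup.map_mk'_self, sup_bot_eq, Subgroup.map_commutator]
        exact Subgroup.commutator_mono le_rfl le_top
      have h2 := CfsgLib.Transfer.eq_bot_of_le_commutator_top h1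
      rw [Subgroup.map_eq_bot_iff, QuotientGroup.ker_mk'] at h2
      exact hTD.not_ge h2
    · exact le_sup_left.trans (hTmax ⟨inferInstance, hET.trans le_sup_right, hlt⟩ le_sup_right)
  have hcen : σ.ker ≤ Subgroup.center _ := by
    rw [hker]
    rintro _ ⟨d, hd, rfl⟩
    rw [Subgroup.mem_center_iff]
    intro x
    obtain ⟨y, rfl⟩ := QuotientGroup.mk'_surjective T x
    have h1 : mk ⁅d, y⁆ = 1 := (QuotientGroup.eq_one_iff _).mpr
      (hcomm (Subgroup.commutator_mem_commutator hd (Subgroup.mem_top y)))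
    rw [map_commutatorElement, commutatorElement_eq_one_iff_mul_comm] at h1
    exact h1.symm
  have hsurj : ∀ g, ∃ u, σ u = QuotientGroup.mk' R g := by
    intro g
    obtain ⟨r, hr, x, hx, rfl⟩ : ∃ r ∈ R, ∃ x ∈ (P : Subgroup G), r * x = g :=
      Subgroup.mem_sup_of_normal_left.mp (by rw [hR, CfsgLib.Transfer.pResidual_sup_sylow]; trivial)
    refine ⟨mk ⟨x, hx⟩, ?_⟩
    rw [map_mul, (QuotientGroup.eq_one_iff r).mpr hr |> fun h => (h : QuotientGroup.mk' R r = 1), one_mul]
    rfl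
  -- the map `H → P/T` through `H/O^p(H)`
  let f : (P : Subgroup G) ⧸ E →* H ⧸ Cfsg.pResidual p H :=
    QuotientGroup.map E _ inc hEc.le
  have hfs : Function.Surjective f := by
    intro y
    obtain ⟨u, rfl⟩ := QuotientGroup.mk'_surjective _ y
    obtain ⟨r, hr, s, hs, rfl⟩ : ∃ r ∈ Cfsg.pResidual p H, ∃ s ∈ ((P.subtype hPH : Sylow p H) : Subgroup H),
        r * s = u := Subgroup.mem_sup_of_normal_left.mp (by rw [CfsgLib.Transfer.pResidual_sup_sylow]; trivial)
    refine ⟨QuotientGroup.mk' E ⟨(s : G), hs⟩, ?_⟩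
    rw [map_mul, (QuotientGroup.eq_one_iff r).mpr hr |> fun h => (h : QuotientGroup.mk' _ r = 1), one_mul]
    rfl
  have hfi : Function.Injective f := (injective_iff_map_eq_one f).2 fun y hy => by
    obtain ⟨u, rfl⟩ := QuotientGroup.mk'_surjective E y
    exact (QuotientGroup.eq_one_iff u).2 (hEc.ge ((QuotientGroup.eq_one_iff (inc u)).1 hy))
  let e := MulEquiv.ofBijective f ⟨hfi, hfs⟩
  let ι : H →* (P : Subgroup G) ⧸ T :=
    ((QuotientGroup.map E T (MonoidHom.id _) hET).comp e.symm.toMonoidHom).comp (QuotientGroup.mk' _)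
  have hι : ∀ s, σ (ι s) = QuotientGroup.mk' R (s : G) := by
    intro s
    obtain ⟨y, hy⟩ := hfs (QuotientGroup.mk' _ s)
    obtain ⟨u, rfl⟩ := QuotientGroup.mk'_surjective E y
    have he' : e.symm (QuotientGroup.mk' _ s) = QuotientGroup.mk' E u := by
      rw [MulEquiv.symm_apply_eq]; exact hy.symm
    show σ (QuotientGroup.map E T (MonoidHom.id _) hET (e.symm (QuotientGroup.mk' _ s))) = _
    rw [he']
    have hm : (inc u)⁻¹ * s ∈ Cfsg.pResidual p H := QuotientGroup.eq.1 hy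
    exact QuotientGroup.eq.2 (hRH ⟨_, hm, rfl⟩)
  obtain ⟨φ, hφ⟩ := CfsgLib.Transfer.exists_lift_of_sylow (p := p) σ hcen
    ((P.isPGroup'.to_quotient T).to_subgroup _) (QuotientGroup.mk' R) hsurj H
    (fun hd => P.not_dvd_index (hd.trans (Subgroup.index_dvd_of_le hPH))) ι hι
  have htop : φ.range = ⊤ := by
    have h1 : φ.range.comap mk ⊔ frattini (P : Subgroup G) = ⊤ := by
      rw [eq_top_iff]
      intro y _
      have hy : mk y * (φ y)⁻¹ ∈ σ.ker := by
        rw [MonoidHom.mem_ker, map_mul, map_inv, hφ, mul_inv_eq_one]; rfl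
      rw [hker] at hy
      obtain ⟨d, hd, hde⟩ := hy
      have : d⁻¹ * y ∈ φ.range.comap mk := by
        show mk (d⁻¹ * y) ∈ φ.range
        rw [map_mul, map_inv, hde, mul_inv_rev, inv_inv, inv_mul_cancel_right]
        exact ⟨_, rfl⟩
      have hd' : d ∈ φ.range.comap mk ⊔ frattini (P : Subgroup G) := by
        refine (show E ⊔ frattini (P : Subgroup G) ≤ φ.range.comap mk ⊔ frattini (P : Subgroup G) from
          sup_le_sup_right (fun t ht => ?_) _) (h hd)
        show mk t ∈ φ.range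
        rw [show mk t = 1 from (QuotientGroup.eq_one_iff t).2 (hET ht)]
        exact one_mem _
      have h3 := mul_mem hd' (Subgroup.mem_sup_left (T := frattini (P : Subgroup G)) this)
      rwa [mul_inv_cancel_left] at h3
    have h2 := frattini_nongenerating h1
    rw [eq_top_iff]
    intro x _
    obtain ⟨y, rfl⟩ := QuotientGroup.mk'_surjective T x
    exact (h2.ge (Subgroup.mem_top y) : y ∈ φ.range.comap mk)
  have hRk := CfsgLib.Transfer.pResidual_le_of_isPGroup_quotient φ.ker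
    ((P.isPGroup'.to_quotient T).of_injective (QuotientGroup.kerLift φ) (QuotientGroup.kerLift_injective φ))
  apply hTD.not_ge
  intro d hd
  obtain ⟨g, hg⟩ : mk d ∈ φ.range := htop ▸ Subgroup.mem_top _
  have hgR : g ∈ R := by
    rw [← QuotientGroup.ker_mk' R, MonoidHom.mem_ker, ← hφ, hg]
    have : mk d ∈ σ.ker := hker ▸ Subgroup.mem_map_of_mem _ hd
    exact this
  rw [← QuotientGroup.ker_mk' T, MonoidHom.mem_ker]
  exact hg.symm.trans (hRk hgR)

/-- The Hall–Wielandt theorem. -/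
theorem pResidualOf_eq_of_weakEngel (P : Sylow p G) (Q : Subgroup G) (hQ : Cfsg.IsWeaklyClosed Q (P : Subgroup G))
    (he : WeakEngel p (P : Subgroup G) Q) :
    Cfsg.pResidualOf p (Subgroup.normalizer (Q : Set G)) =
      Cfsg.pResidual p G ⊓ Subgroup.normalizer (Q : Set G) := by
  set H := Subgroup.normalizer (Q : Set G) with hH
  have hPH : (P : Subgroup G) ≤ H := fun x hx =>
    Subgroup.mem_normalizer_iff_map_conj_eq.mpr (hQ.2 x fun _ ⟨z, hz, e⟩ =>
      e ▸ (P : Subgroup G).mul_mem ((P : Subgroup G).mul_mem hx (hQ.1 hz)) ((P : Subgroup G).inv_mem hx))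
  haveI hHn : (Cfsg.pResidual p H).Normal := CfsgLib.Transfer.pResidual_normal
  haveI hRn : (Cfsg.pResidual p G).Normal := CfsgLib.Transfer.pResidual_normal
  let inc : (P : Subgroup G) →* H := Subgroup.inclusion hPH
  set E := (Cfsg.pResidual p H).comap inc with hE
  have hEc : (Cfsg.pResidualOf p H).subgroupOf (P : Subgroup G) = E := by
    ext y
    exact Subgroup.mem_map_iff_mem H.subtype_injective (x := inc y)
  set K := E ⊔ frattini (P : Subgroup G) with hK
  have hcomm : ∀ a b : (P : Subgroup G) ⧸ K, a * b = b * a := fun a b => by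
    obtain ⟨a, rfl⟩ := QuotientGroup.mk'_surjective K a
    obtain ⟨b, rfl⟩ := QuotientGroup.mk'_surjective K b
    rw [← commutatorElement_eq_one_iff_mul_comm, ← map_commutatorElement]
    exact (QuotientGroup.eq_one_iff _).2 (Subgroup.mem_sup_right
      (CfsgLib.PGroup.commutator_le_frattini P.isPGroup'
        (Subgroup.commutator_mem_commutator (Subgroup.mem_top a) (Subgroup.mem_top b))))
  letI : CommGroup ((P : Subgroup G) ⧸ K) := { (inferInstance : Group _) with mul_comm := hcomm }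
  have hexp : ∀ b : (P : Subgroup G) ⧸ K, b ^ p = 1 := fun b => by
    obtain ⟨b, rfl⟩ := QuotientGroup.mk'_surjective K b
    rw [← map_pow]
    exact (QuotientGroup.eq_one_iff _).2 (Subgroup.mem_sup_right (CfsgLib.PGroup.pow_mem_frattini P.isPGroup' b))
  let f : (P : Subgroup G) ⧸ E →* H ⧸ Cfsg.pResidual p H := QuotientGroup.map E _ inc le_rfl
  have hfs : Function.Surjective f := by
    intro y
    obtain ⟨u, rfl⟩ := QuotientGroup.mk'_surjective _ y
    obtain ⟨r, hr, s, hs, rfl⟩ : ∃ r ∈ Cfsg.pResidual p H, ∃ s ∈ ((P.subtype hPH : Sylow p H) : Subgroup H),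
        r * s = u := Subgroup.mem_sup_of_normal_left.mp (by rw [CfsgLib.Transfer.pResidual_sup_sylow]; trivial)
    refine ⟨QuotientGroup.mk' E ⟨(s : G), hs⟩, ?_⟩
    rw [map_mul, (QuotientGroup.eq_one_iff r).mpr hr |> fun h => (h : QuotientGroup.mk' _ r = 1), one_mul]
    rfl
  have hfi : Function.Injective f := (injective_iff_map_eq_one f).2 fun y hy => by
    obtain ⟨u, rfl⟩ := QuotientGroup.mk'_surjective E y
    exact (QuotientGroup.eq_one_iff u).2 ((QuotientGroup.eq_one_iff (inc u)).1 hy)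
  let e := MulEquiv.ofBijective f ⟨hfi, hfs⟩
  let π : H →* (P : Subgroup G) ⧸ K :=
    ((QuotientGroup.map E K (MonoidHom.id _) le_sup_left).comp e.symm.toMonoidHom).comp (QuotientGroup.mk' _)
  have hπ : ∀ y : (P : Subgroup G), π ⟨(y : G), hPH y.2⟩ = QuotientGroup.mk' K y := fun y => by
    have : e.symm (QuotientGroup.mk' _ (inc y)) = QuotientGroup.mk' E y := by
      rw [MulEquiv.symm_apply_eq]; rfl
    show QuotientGroup.map E K (MonoidHom.id _) le_sup_left (e.symm (QuotientGroup.mk' _ (inc y))) = _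
    rw [this]; rfl
  obtain ⟨τ, hτ⟩ := exists_surjective P hQ hPH (fun g hg => Subgroup.mem_normalizer_iff_map_conj_eq.mpr hg)
    (fun u hu z hz => by simpa using (Subgroup.mem_normalizer_iff.1 (H.inv_mem (hPH hu)) z).1 hz) he hexp π fun b => by
    obtain ⟨y, rfl⟩ := QuotientGroup.mk'_surjective K b
    exact ⟨y, y.2, hπ y⟩
  let ψ := τ.comp (P : Subgroup G).subtype
  have hψs : Function.Surjective ψ := fun b => by
    obtain ⟨x, hx, hxb⟩ := hτ b
    exact ⟨⟨x, hx⟩, hxb⟩
  set D := (Cfsg.pResidual p G).subgroupOf (P : Subgroup G) with hD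
  have hED : E ≤ D := fun y hy => CfsgLib.Transfer.map_pResidual_le H.subtype ⟨_, hy, rfl⟩
  have hRτ : Cfsg.pResidual p G ≤ τ.ker := by
    refine CfsgLib.Transfer.pResidual_le_of_isPGroup_quotient τ.ker ?_
    exact ((P.isPGroup'.to_quotient K)).of_injective (QuotientGroup.kerLift τ) (QuotientGroup.kerLift_injective τ)
  have hKψ : D ⊔ frattini (P : Subgroup G) ≤ ψ.ker := by
    refine sup_le (fun y hy => hRτ hy) ?_
    refine CfsgLib.PGroup.frattini_le_of_elementary (p := p) (fun a b => ?_) fun a => ?_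
    · rw [MonoidHom.mem_ker, map_commutatorElement, commutatorElement_eq_one_iff_mul_comm]
      exact mul_comm _ _
    · rw [MonoidHom.mem_ker, map_pow]
      exact hexp _
  have hcard : ψ.ker.index = K.index := by
    rw [Subgroup.index_ker, MonoidHom.range_eq_top.2 hψs, Subgroup.card_top, Subgroup.index_eq_card]
  have hKker : K ≤ ψ.ker := (sup_le_sup_right hED _).trans hKψ
  have heq : ψ.ker ≤ K := by
    refine (Subgroup.eq_of_le_of_card_ge hKker (le_of_eq ?_)).ge
    have h1 := Subgroup.card_mul_index ψ.ker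
    rw [← Subgroup.card_mul_index K, hcard] at h1
    exact Nat.eq_of_mul_eq_mul_right (Nat.pos_of_ne_zero K.index_ne_zero_of_finite) h1
  have hDE : D ≤ E := hEc ▸ tate_control P H hPH (hEc.symm ▸ (le_sup_left.trans hKψ).trans heq)
  refine le_antisymm ?_ ?_
  · exact le_inf (CfsgLib.Transfer.map_pResidual_le H.subtype) (Subgroup.map_subtype_le _)
  · rintro h ⟨hR, hhH⟩
    obtain ⟨r, hr, s, hs, hrs⟩ : ∃ r ∈ Cfsg.pResidual p H, ∃ s ∈ ((P.subtype hPH : Sylow p H) : Subgroup H),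
        r * s = ⟨h, hhH⟩ := Subgroup.mem_sup_of_normal_left.mp (by rw [CfsgLib.Transfer.pResidual_sup_sylow]; trivial)
    have hrR : (r : G) ∈ Cfsg.pResidual p G := CfsgLib.Transfer.map_pResidual_le H.subtype ⟨r, hr, rfl⟩
    have hrs' : (r : G) * s = h := congrArg Subtype.val hrs
    have hsR : (s : G) ∈ Cfsg.pResidual p G := by
      rw [show (s : G) = (r : G)⁻¹ * h by rw [← hrs', inv_mul_cancel_left]]
      exact mul_mem (inv_mem hrR) hR
    have hsE : inc ⟨(s : G), hs⟩ ∈ Cfsg.pResidual p H := hDE (show (⟨(s : G), hs⟩ : (P : Subgroup G)) ∈ D from hsR)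
    exact ⟨r * s, mul_mem hr hsE, hrs'⟩

/-- The Hall–Wielandt theorem. -/
theorem pResidualOf_eq (P : Sylow p G) (Q : Subgroup G) (hQ : Cfsg.IsWeaklyClosed Q (P : Subgroup G))
    (he : ∀ u ∈ (P : Subgroup G), ∀ z ∈ Q, (fun y : G => y⁻¹ * z⁻¹ * y * z)^[p - 1] u = 1) :
    Cfsg.pResidualOf p (Subgroup.normalizer (Q : Set G)) =
      Cfsg.pResidual p G ⊓ Subgroup.normalizer (Q : Set G) :=
  pResidualOf_eq_of_weakEngel P Q hQ (weakEngel_of_engel he)

end CfsgLib.HallWielandt
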